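import Mathlib.Algebra.Homology.DerivedCategory.Ext.Map
import Mathlib.Algebra.Homology.DerivedCategory.Ext.EnoughInjectives
import Mathlib.Algebra.Homology.DerivedCategory.Ext.ExactSequences
import Mathlib.CategoryTheory.Preadditive.Injective.Basic

/-!
# Ext and an adjunction whose right adjoint is exact and preserves injectives
-/

set_option autoImplicit false
set_option linter.style.haveILetI false
universe w w' v v' u u'

open CategoryTheory CategoryTheory.Limits CategoryTheory.Abelian

namespace ExtAdjLib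

variable {C : Type u} [Category.{v} C] [Abelian C] {D : Type u'} [Category.{v'} D] [Abelian D]
  [HasExt.{w} C] [HasExt.{w'} D] {L : D ⥤ C} {R : C ⥤ D} [R.Additive] [PreservesFiniteLimits R]
  [PreservesFiniteColimits R] (adj : L ⊣ R)

/-- The comparison. -/
noncomputable def Φ {M : D} {N : C} {i : ℕ} (e : Ext.{w} (L.obj M) N i) : Ext.{w'} M (R.obj N) i :=
  (Ext.mk₀ (adj.unit.app M)).comp (e.mapExactFunctor R) (zero_add i)

theorem Φ_comp {M : D} {N N' : C} {a b c : ℕ} (x : Ext.{w} (L.obj M) N a) (y : Ext.{w} N N' b) (h : a + b = c) :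
    Φ adj (x.comp y h) = (Φ adj x).comp (y.mapExactFunctor R) h := by
  rw [Φ, Φ, Ext.mapExactFunctor_comp]
  exact (Ext.comp_assoc _ _ _ _ _ (by omega)).symm

theorem Φ_zero {M : D} {N : C} {i : ℕ} : Φ adj (0 : Ext.{w} (L.obj M) N i) = 0 := by
  rw [Φ, Ext.mapExactFunctor_zero, Ext.comp_zero]

theorem Φ_mk₀ {M : D} {N : C} (g : L.obj M ⟶ N) : Φ adj (Ext.mk₀ g) = Ext.mk₀ (adj.homEquiv M N g) := by
  rw [Φ, Ext.mapExactFunctor_mk₀, Ext.mk₀_comp_mk₀, Adjunction.homEquiv_unit]

theorem bijective_zero (M : D) (N : C) : Function.Bijective (Φ adj : Ext.{w} (L.obj M) N 0 → _) := by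
  have h : (Φ adj : Ext.{w} (L.obj M) N 0 → _) ∘ Ext.mk₀ = Ext.mk₀ ∘ adj.homEquiv M N :=
    funext fun g => Φ_mk₀ adj g
  have h2 : Function.Bijective ((Φ adj : Ext.{w} (L.obj M) N 0 → _) ∘ Ext.mk₀) := by
    rw [h]
    exact (Ext.mk₀_bijective _ _).comp (adj.homEquiv M N).bijective
  exact (Function.Bijective.of_comp_iff _ (Ext.mk₀_bijective _ _)).mp h2

variable [EnoughInjectives C]

theorem bijective (hR : ∀ I : C, Injective I → Injective (R.obj I)) (i : ℕ) :
    ∀ (M : D) (N : C), Function.Bijective (Φ adj : Ext.{w} (L.obj M) N i → _) := by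
  induction i with
  | zero => exact bijective_zero adj
  | succ i ih =>
    intro M N
    obtain ⟨p⟩ := EnoughInjectives.presentation N
    haveI := p.injective
    haveI := hR _ p.injective
    let S : ShortComplex C := ShortComplex.mk p.f (cokernel.π p.f) (cokernel.condition p.f)
    have hS : S.ShortExact :=
      { exact := ShortComplex.exact_of_g_is_cokernel _ (cokernelIsCokernel p.f)
        mono_f := inferInstanceAs (Mono p.f)
        epi_g := inferInstanceAs (Epi (cokernel.π p.f)) }
    have hδ : ∀ y : Ext.{w} (L.obj M) S.X₃ i,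
        Φ adj (y.comp hS.extClass (rfl : i + 1 = i + 1)) = (Φ adj y).comp (hS.map_of_exact R).extClass rfl :=
      fun y => by rw [Φ_comp, Ext.mapExactFunctor_extClass]; rfl
    haveI : Injective S.X₂ := p.injective
    haveI : Injective (S.map R).X₂ := hR _ p.injective
    have hlift : ∀ x : Ext.{w} (L.obj M) N (i + 1), ∃ y : Ext.{w} (L.obj M) S.X₃ i, y.comp hS.extClass rfl = x := fun x =>
      Ext.covariant_sequence_exact₁ (L.obj M) hS x (Ext.eq_zero_of_injective _) rfl
    constructor
    · intro x x' hxx'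
      obtain ⟨y, rfl⟩ := hlift x
      obtain ⟨y', rfl⟩ := hlift x'
      rw [hδ, hδ] at hxx'
      have h0 : ((Φ adj y) - (Φ adj y')).comp (hS.map_of_exact R).extClass (rfl : i + 1 = i + 1) = 0 := by
        rw [sub_eq_add_neg, Ext.add_comp, Ext.neg_comp, hxx', add_neg_cancel]
      obtain ⟨z, hz⟩ := Ext.covariant_sequence_exact₃ M (hS.map_of_exact R) _ rfl h0
      obtain ⟨z', rfl⟩ := (ih M S.X₂).2 z
      have h1 : Φ adj (z'.comp (Ext.mk₀ S.g) (add_zero i)) + Φ adj y' = Φ adj y := by
        rw [Φ_comp, Ext.mapExactFunctor_mk₀]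
        exact sub_eq_iff_eq_add.mp hz.symm |>.symm
      have h2 : Φ adj (z'.comp (Ext.mk₀ S.g) (add_zero i) + y') = Φ adj y := by
        rw [← h1]
        simp only [Φ, Ext.mapExactFunctor_add, Ext.comp_add]
      rw [← (ih M S.X₃).1 h2, Ext.add_comp, Ext.comp_assoc_of_second_deg_zero, hS.comp_extClass,
        Ext.comp_zero, zero_add]
    · intro x
      obtain ⟨y, hy⟩ := Ext.covariant_sequence_exact₁ M (hS.map_of_exact R) x (Ext.eq_zero_of_injective _) rfl
      obtain ⟨y', rfl⟩ := (ih M S.X₃).2 y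
      exact ⟨y'.comp hS.extClass rfl, (hδ y').trans hy⟩

end ExtAdjLib
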